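import Cfsg.Agent.Lib.Helper28.Fi22x14080.ChkDefs

set_option autoImplicit false
set_option linter.unusedVariables false
set_option Elab.async false

namespace Cfsg.Agent.Lib.Helper28.Fi22x14080

open Cfsg.Spor.Fi22 (Gen)
open Cfsg.Agent.Lib.Helper28.TC

noncomputable section

theorem factP_blk192 : allRange factP 6 (192 * 2 ^ 6) = true := by decide +kernel
theorem factP_blk193 : allRange factP 6 (193 * 2 ^ 6) = true := by decide +kernel
theorem factP_blk194 : allRange factP 6 (194 * 2 ^ 6) = true := by decide +kernel
theorem factP_blk195 : allRange factP 6 (195 * 2 ^ 6) = true := by decide +kernel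
theorem factP_blk196 : allRange factP 6 (196 * 2 ^ 6) = true := by decide +kernel
theorem factP_blk197 : allRange factP 6 (197 * 2 ^ 6) = true := by decide +kernel
theorem factP_blk198 : allRange factP 6 (198 * 2 ^ 6) = true := by decide +kernel
theorem factP_blk199 : allRange factP 6 (199 * 2 ^ 6) = true := by decide +kernel
theorem factP_blk200 : allRange factP 6 (200 * 2 ^ 6) = true := by decide +kernel
theorem factP_blk201 : allRange factP 6 (201 * 2 ^ 6) = true := by decide +kernel
theorem factP_blk202 : allRange factP 6 (202 * 2 ^ 6) = true := by decide +kernel
theorem factP_blk203 : allRange factP 6 (203 * 2 ^ 6) = true := by decide +kernel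
theorem factP_blk204 : allRange factP 6 (204 * 2 ^ 6) = true := by decide +kernel
theorem factP_blk205 : allRange factP 6 (205 * 2 ^ 6) = true := by decide +kernel
theorem factP_blk206 : allRange factP 6 (206 * 2 ^ 6) = true := by decide +kernel
theorem factP_blk207 : allRange factP 6 (207 * 2 ^ 6) = true := by decide +kernel
theorem factP_blk208 : allRange factP 6 (208 * 2 ^ 6) = true := by decide +kernel
theorem factP_blk209 : allRange factP 6 (209 * 2 ^ 6) = true := by decide +kernel
theorem factP_blk210 : allRange factP 6 (210 * 2 ^ 6) = true := by decide +kernel
theorem factP_blk211 : allRange factP 6 (211 * 2 ^ 6) = true := by decide +kernel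
theorem factP_blk212 : allRange factP 6 (212 * 2 ^ 6) = true := by decide +kernel
theorem factP_blk213 : allRange factP 6 (213 * 2 ^ 6) = true := by decide +kernel
theorem factP_blk214 : allRange factP 6 (214 * 2 ^ 6) = true := by decide +kernel
theorem factP_blk215 : allRange factP 6 (215 * 2 ^ 6) = true := by decide +kernel
theorem factP_blk216 : allRange factP 6 (216 * 2 ^ 6) = true := by decide +kernel
theorem factP_blk217 : allRange factP 6 (217 * 2 ^ 6) = true := by decide +kernel
theorem factP_blk218 : allRange factP 6 (218 * 2 ^ 6) = true := by decide +kernel
theorem factP_blk219 : allRange factP 6 (219 * 2 ^ 6) = true := by decide +kernel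
theorem factP_blk220 : allRange factP 6 (220 * 2 ^ 6) = true := by decide +kernel
theorem factP_blk221 : allRange factP 6 (221 * 2 ^ 6) = true := by decide +kernel
theorem factP_blk222 : allRange factP 6 (222 * 2 ^ 6) = true := by decide +kernel
theorem factP_blk223 : allRange factP 6 (223 * 2 ^ 6) = true := by decide +kernel
theorem factP_blk224 : allRange factP 6 (224 * 2 ^ 6) = true := by decide +kernel
theorem factP_blk225 : allRange factP 6 (225 * 2 ^ 6) = true := by decide +kernel
theorem factP_blk226 : allRange factP 6 (226 * 2 ^ 6) = true := by decide +kernel
theorem factP_blk227 : allRange factP 6 (227 * 2 ^ 6) = true := by decide +kernel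
theorem factP_blk228 : allRange factP 6 (228 * 2 ^ 6) = true := by decide +kernel
theorem factP_blk229 : allRange factP 6 (229 * 2 ^ 6) = true := by decide +kernel
theorem factP_blk230 : allRange factP 6 (230 * 2 ^ 6) = true := by decide +kernel
theorem factP_blk231 : allRange factP 6 (231 * 2 ^ 6) = true := by decide +kernel
theorem factP_blk232 : allRange factP 6 (232 * 2 ^ 6) = true := by decide +kernel
theorem factP_blk233 : allRange factP 6 (233 * 2 ^ 6) = true := by decide +kernel
theorem factP_blk234 : allRange factP 6 (234 * 2 ^ 6) = true := by decide +kernel
theorem factP_blk235 : allRange factP 6 (235 * 2 ^ 6) = true := by decide +kernel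
theorem factP_blk236 : allRange factP 6 (236 * 2 ^ 6) = true := by decide +kernel
theorem factP_blk237 : allRange factP 6 (237 * 2 ^ 6) = true := by decide +kernel
theorem factP_blk238 : allRange factP 6 (238 * 2 ^ 6) = true := by decide +kernel
theorem factP_blk239 : allRange factP 6 (239 * 2 ^ 6) = true := by decide +kernel
theorem factP_blk240 : allRange factP 6 (240 * 2 ^ 6) = true := by decide +kernel
theorem factP_blk241 : allRange factP 6 (241 * 2 ^ 6) = true := by decide +kernel
theorem factP_blk242 : allRange factP 6 (242 * 2 ^ 6) = true := by decide +kernel
theorem factP_blk243 : allRange factP 6 (243 * 2 ^ 6) = true := by decide +kernel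
theorem factP_blk244 : allRange factP 6 (244 * 2 ^ 6) = true := by decide +kernel
theorem factP_blk245 : allRange factP 6 (245 * 2 ^ 6) = true := by decide +kernel
theorem factP_blk246 : allRange factP 6 (246 * 2 ^ 6) = true := by decide +kernel
theorem factP_f2 : ∀ k, 192 ≤ k → k < 247 → allRange factP 6 (k * 2 ^ 6) = true := by
  intro k h1 h2
  interval_cases k
  · exact factP_blk192
  · exact factP_blk193
  · exact factP_blk194
  · exact factP_blk195
  · exact factP_blk196
  · exact factP_blk197
  · exact factP_blk198
  · exact factP_blk199
  · exact factP_blk200
  · exact factP_blk201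
  · exact factP_blk202
  · exact factP_blk203
  · exact factP_blk204
  · exact factP_blk205
  · exact factP_blk206
  · exact factP_blk207
  · exact factP_blk208
  · exact factP_blk209
  · exact factP_blk210
  · exact factP_blk211
  · exact factP_blk212
  · exact factP_blk213
  · exact factP_blk214
  · exact factP_blk215
  · exact factP_blk216
  · exact factP_blk217
  · exact factP_blk218
  · exact factP_blk219
  · exact factP_blk220
  · exact factP_blk221
  · exact factP_blk222
  · exact factP_blk223
  · exact factP_blk224
  · exact factP_blk225
  · exact factP_blk226
  · exact factP_blk227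
  · exact factP_blk228
  · exact factP_blk229
  · exact factP_blk230
  · exact factP_blk231
  · exact factP_blk232
  · exact factP_blk233
  · exact factP_blk234
  · exact factP_blk235
  · exact factP_blk236
  · exact factP_blk237
  · exact factP_blk238
  · exact factP_blk239
  · exact factP_blk240
  · exact factP_blk241
  · exact factP_blk242
  · exact factP_blk243
  · exact factP_blk244
  · exact factP_blk245
  · exact factP_blk246

end

end Cfsg.Agent.Lib.Helper28.Fi22x14080
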