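import Cfsg.Agent.Lib.Helper28.Fi22x14080.ChkDefs

set_option autoImplicit false
set_option linter.unusedVariables false
set_option Elab.async false

namespace Cfsg.Agent.Lib.Helper28.Fi22x14080

open Cfsg.Spor.Fi22 (Gen)
open Cfsg.Agent.Lib.Helper28.TC

noncomputable section

theorem permP_blk144 : allRange (guard nn permP) 5 (144 * 2 ^ 5) = true := by decide +kernel
theorem permP_blk145 : allRange (guard nn permP) 5 (145 * 2 ^ 5) = true := by decide +kernel
theorem permP_blk146 : allRange (guard nn permP) 5 (146 * 2 ^ 5) = true := by decide +kernel
theorem permP_blk147 : allRange (guard nn permP) 5 (147 * 2 ^ 5) = true := by decide +kernel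
theorem permP_blk148 : allRange (guard nn permP) 5 (148 * 2 ^ 5) = true := by decide +kernel
theorem permP_blk149 : allRange (guard nn permP) 5 (149 * 2 ^ 5) = true := by decide +kernel
theorem permP_blk150 : allRange (guard nn permP) 5 (150 * 2 ^ 5) = true := by decide +kernel
theorem permP_blk151 : allRange (guard nn permP) 5 (151 * 2 ^ 5) = true := by decide +kernel
theorem permP_blk152 : allRange (guard nn permP) 5 (152 * 2 ^ 5) = true := by decide +kernel
theorem permP_blk153 : allRange (guard nn permP) 5 (153 * 2 ^ 5) = true := by decide +kernel
theorem permP_blk154 : allRange (guard nn permP) 5 (154 * 2 ^ 5) = true := by decide +kernel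
theorem permP_blk155 : allRange (guard nn permP) 5 (155 * 2 ^ 5) = true := by decide +kernel
theorem permP_blk156 : allRange (guard nn permP) 5 (156 * 2 ^ 5) = true := by decide +kernel
theorem permP_blk157 : allRange (guard nn permP) 5 (157 * 2 ^ 5) = true := by decide +kernel
theorem permP_blk158 : allRange (guard nn permP) 5 (158 * 2 ^ 5) = true := by decide +kernel
theorem permP_blk159 : allRange (guard nn permP) 5 (159 * 2 ^ 5) = true := by decide +kernel
theorem permP_blk160 : allRange (guard nn permP) 5 (160 * 2 ^ 5) = true := by decide +kernel
theorem permP_blk161 : allRange (guard nn permP) 5 (161 * 2 ^ 5) = true := by decide +kernel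
theorem permP_blk162 : allRange (guard nn permP) 5 (162 * 2 ^ 5) = true := by decide +kernel
theorem permP_blk163 : allRange (guard nn permP) 5 (163 * 2 ^ 5) = true := by decide +kernel
theorem permP_blk164 : allRange (guard nn permP) 5 (164 * 2 ^ 5) = true := by decide +kernel
theorem permP_blk165 : allRange (guard nn permP) 5 (165 * 2 ^ 5) = true := by decide +kernel
theorem permP_blk166 : allRange (guard nn permP) 5 (166 * 2 ^ 5) = true := by decide +kernel
theorem permP_blk167 : allRange (guard nn permP) 5 (167 * 2 ^ 5) = true := by decide +kernel
theorem permP_blk168 : allRange (guard nn permP) 5 (168 * 2 ^ 5) = true := by decide +kernel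
theorem permP_blk169 : allRange (guard nn permP) 5 (169 * 2 ^ 5) = true := by decide +kernel
theorem permP_blk170 : allRange (guard nn permP) 5 (170 * 2 ^ 5) = true := by decide +kernel
theorem permP_blk171 : allRange (guard nn permP) 5 (171 * 2 ^ 5) = true := by decide +kernel
theorem permP_blk172 : allRange (guard nn permP) 5 (172 * 2 ^ 5) = true := by decide +kernel
theorem permP_blk173 : allRange (guard nn permP) 5 (173 * 2 ^ 5) = true := by decide +kernel
theorem permP_blk174 : allRange (guard nn permP) 5 (174 * 2 ^ 5) = true := by decide +kernel
theorem permP_blk175 : allRange (guard nn permP) 5 (175 * 2 ^ 5) = true := by decide +kernel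
theorem permP_blk176 : allRange (guard nn permP) 5 (176 * 2 ^ 5) = true := by decide +kernel
theorem permP_blk177 : allRange (guard nn permP) 5 (177 * 2 ^ 5) = true := by decide +kernel
theorem permP_blk178 : allRange (guard nn permP) 5 (178 * 2 ^ 5) = true := by decide +kernel
theorem permP_blk179 : allRange (guard nn permP) 5 (179 * 2 ^ 5) = true := by decide +kernel
theorem permP_blk180 : allRange (guard nn permP) 5 (180 * 2 ^ 5) = true := by decide +kernel
theorem permP_blk181 : allRange (guard nn permP) 5 (181 * 2 ^ 5) = true := by decide +kernel
theorem permP_blk182 : allRange (guard nn permP) 5 (182 * 2 ^ 5) = true := by decide +kernel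
theorem permP_blk183 : allRange (guard nn permP) 5 (183 * 2 ^ 5) = true := by decide +kernel
theorem permP_blk184 : allRange (guard nn permP) 5 (184 * 2 ^ 5) = true := by decide +kernel
theorem permP_blk185 : allRange (guard nn permP) 5 (185 * 2 ^ 5) = true := by decide +kernel
theorem permP_blk186 : allRange (guard nn permP) 5 (186 * 2 ^ 5) = true := by decide +kernel
theorem permP_blk187 : allRange (guard nn permP) 5 (187 * 2 ^ 5) = true := by decide +kernel
theorem permP_blk188 : allRange (guard nn permP) 5 (188 * 2 ^ 5) = true := by decide +kernel
theorem permP_blk189 : allRange (guard nn permP) 5 (189 * 2 ^ 5) = true := by decide +kernel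
theorem permP_blk190 : allRange (guard nn permP) 5 (190 * 2 ^ 5) = true := by decide +kernel
theorem permP_blk191 : allRange (guard nn permP) 5 (191 * 2 ^ 5) = true := by decide +kernel
theorem permP_f3 : ∀ k, 144 ≤ k → k < 192 → allRange (guard nn permP) 5 (k * 2 ^ 5) = true := by
  intro k h1 h2
  interval_cases k
  · exact permP_blk144
  · exact permP_blk145
  · exact permP_blk146
  · exact permP_blk147
  · exact permP_blk148
  · exact permP_blk149
  · exact permP_blk150
  · exact permP_blk151
  · exact permP_blk152
  · exact permP_blk153
  · exact permP_blk154
  · exact permP_blk155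
  · exact permP_blk156
  · exact permP_blk157
  · exact permP_blk158
  · exact permP_blk159
  · exact permP_blk160
  · exact permP_blk161
  · exact permP_blk162
  · exact permP_blk163
  · exact permP_blk164
  · exact permP_blk165
  · exact permP_blk166
  · exact permP_blk167
  · exact permP_blk168
  · exact permP_blk169
  · exact permP_blk170
  · exact permP_blk171
  · exact permP_blk172
  · exact permP_blk173
  · exact permP_blk174
  · exact permP_blk175
  · exact permP_blk176
  · exact permP_blk177
  · exact permP_blk178
  · exact permP_blk179
  · exact permP_blk180
  · exact permP_blk181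
  · exact permP_blk182
  · exact permP_blk183
  · exact permP_blk184
  · exact permP_blk185
  · exact permP_blk186
  · exact permP_blk187
  · exact permP_blk188
  · exact permP_blk189
  · exact permP_blk190
  · exact permP_blk191

end

end Cfsg.Agent.Lib.Helper28.Fi22x14080
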