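import Cfsg.Agent.Lib.Helper28.Fi22x14080.ChkP0
import Cfsg.Agent.Lib.Helper28.Fi22x14080.ChkP1
import Cfsg.Agent.Lib.Helper28.Fi22x14080.ChkP2
import Cfsg.Agent.Lib.Helper28.Fi22x14080.ChkP3
import Cfsg.Agent.Lib.Helper28.Fi22x14080.ChkP4
import Cfsg.Agent.Lib.Helper28.Fi22x14080.ChkP5
import Cfsg.Agent.Lib.Helper28.Fi22x14080.ChkP6
import Cfsg.Agent.Lib.Helper28.Fi22x14080.ChkP7
import Cfsg.Agent.Lib.Helper28.Fi22x14080.ChkP8
import Cfsg.Agent.Lib.Helper28.Fi22x14080.ChkP9
import Cfsg.Agent.Lib.Helper28.Fi22x14080.ChkF0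
import Cfsg.Agent.Lib.Helper28.Fi22x14080.ChkF1
import Cfsg.Agent.Lib.Helper28.Fi22x14080.ChkF2
import Cfsg.Agent.Lib.Helper28.Fi22x14080.ChkC0

set_option autoImplicit false
set_option linter.unusedVariables false

namespace Cfsg.Agent.Lib.Helper28.Fi22x14080

open Cfsg.Spor.Fi22 (Gen)
open Cfsg.Agent.Lib.Helper28.TC

noncomputable section

def NNpad : ℕ := 15808
def wHot : ℕ := 32
theorem permP_allk : ∀ k, k < 440 → allRange (guard nn permP) 5 (k * 2 ^ 5) = true := by
  intro k hk
  by_cases h0 : k < 48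
  · exact permP_f0 k (by omega) h0
  by_cases h1 : k < 96
  · exact permP_f1 k (by omega) h1
  by_cases h2 : k < 144
  · exact permP_f2 k (by omega) h2
  by_cases h3 : k < 192
  · exact permP_f3 k (by omega) h3
  by_cases h4 : k < 240
  · exact permP_f4 k (by omega) h4
  by_cases h5 : k < 288
  · exact permP_f5 k (by omega) h5
  by_cases h6 : k < 336
  · exact permP_f6 k (by omega) h6
  by_cases h7 : k < 384
  · exact permP_f7 k (by omega) h7
  by_cases h8 : k < 432
  · exact permP_f8 k (by omega) h8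
  by_cases h9 : k < 440
  · exact permP_f9 k (by omega) h9
  omega
theorem permP_all : ∀ i, i < nn → permP i = true :=
  all_of_blocks nn permP 5 440 (by decide) permP_allk

theorem factP_allk : ∀ k, k < 247 → allRange factP 6 (k * 2 ^ 6) = true := by
  intro k hk
  by_cases h0 : k < 96
  · exact factP_f0 k (by omega) h0
  by_cases h1 : k < 192
  · exact factP_f1 k (by omega) h1
  by_cases h2 : k < 247
  · exact factP_f2 k (by omega) h2
  omega
theorem factP_all : ∀ i, i < NNpad → factP i = true :=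
  allBlocks_spec factP 6 247 factP_allk

theorem closedP_allk : ∀ k, k < 55 → allRange (guard nn closedP) 8 (k * 2 ^ 8) = true := by
  intro k hk
  by_cases h0 : k < 55
  · exact closedP_f0 k (by omega) h0
  omega
theorem closedP_all : ∀ i, i < nn → closedP i = true :=
  all_of_blocks nn closedP 8 55 (by decide) closedP_allk

theorem hotA_lt : hotA < 2 ^ (32 * 15808) := by decide +kernel
theorem hotE0_lt : hotE0 < 2 ^ (32 * 15808) := by decide +kernel
theorem hotE1_lt : hotE1 < 2 ^ (32 * 15808) := by decide +kernel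
theorem hotE2_lt : hotE2 < 2 ^ (32 * 15808) := by decide +kernel
theorem hotE3_lt : hotE3 < 2 ^ (32 * 15808) := by decide +kernel
theorem hotE4_lt : hotE4 < 2 ^ (32 * 15808) := by decide +kernel
theorem hotE5_lt : hotE5 < 2 ^ (32 * 15808) := by decide +kernel
theorem hotE6_lt : hotE6 < 2 ^ (32 * 15808) := by decide +kernel
theorem hotE7_lt : hotE7 < 2 ^ (32 * 15808) := by decide +kernel
theorem hotE8_lt : hotE8 < 2 ^ (32 * 15808) := by decide +kernel
theorem subFix : allList (fun w => Nat.beq (act tf w 0) 0) subWords = true := by decide +kernel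

end

end Cfsg.Agent.Lib.Helper28.Fi22x14080
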