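import Cfsg.Agent.Lib.Helper28.Fi22x14080.ChkDefs

set_option autoImplicit false
set_option linter.unusedVariables false
set_option Elab.async false

namespace Cfsg.Agent.Lib.Helper28.Fi22x14080

open Cfsg.Spor.Fi22 (Gen)
open Cfsg.Agent.Lib.Helper28.TC

noncomputable section

theorem factP_blk0 : allRange factP 6 (0 * 2 ^ 6) = true := by decide +kernel
theorem factP_blk1 : allRange factP 6 (1 * 2 ^ 6) = true := by decide +kernel
theorem factP_blk2 : allRange factP 6 (2 * 2 ^ 6) = true := by decide +kernel
theorem factP_blk3 : allRange factP 6 (3 * 2 ^ 6) = true := by decide +kernel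
theorem factP_blk4 : allRange factP 6 (4 * 2 ^ 6) = true := by decide +kernel
theorem factP_blk5 : allRange factP 6 (5 * 2 ^ 6) = true := by decide +kernel
theorem factP_blk6 : allRange factP 6 (6 * 2 ^ 6) = true := by decide +kernel
theorem factP_blk7 : allRange factP 6 (7 * 2 ^ 6) = true := by decide +kernel
theorem factP_blk8 : allRange factP 6 (8 * 2 ^ 6) = true := by decide +kernel
theorem factP_blk9 : allRange factP 6 (9 * 2 ^ 6) = true := by decide +kernel
theorem factP_blk10 : allRange factP 6 (10 * 2 ^ 6) = true := by decide +kernel
theorem factP_blk11 : allRange factP 6 (11 * 2 ^ 6) = true := by decide +kernel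
theorem factP_blk12 : allRange factP 6 (12 * 2 ^ 6) = true := by decide +kernel
theorem factP_blk13 : allRange factP 6 (13 * 2 ^ 6) = true := by decide +kernel
theorem factP_blk14 : allRange factP 6 (14 * 2 ^ 6) = true := by decide +kernel
theorem factP_blk15 : allRange factP 6 (15 * 2 ^ 6) = true := by decide +kernel
theorem factP_blk16 : allRange factP 6 (16 * 2 ^ 6) = true := by decide +kernel
theorem factP_blk17 : allRange factP 6 (17 * 2 ^ 6) = true := by decide +kernel
theorem factP_blk18 : allRange factP 6 (18 * 2 ^ 6) = true := by decide +kernel
theorem factP_blk19 : allRange factP 6 (19 * 2 ^ 6) = true := by decide +kernel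
theorem factP_blk20 : allRange factP 6 (20 * 2 ^ 6) = true := by decide +kernel
theorem factP_blk21 : allRange factP 6 (21 * 2 ^ 6) = true := by decide +kernel
theorem factP_blk22 : allRange factP 6 (22 * 2 ^ 6) = true := by decide +kernel
theorem factP_blk23 : allRange factP 6 (23 * 2 ^ 6) = true := by decide +kernel
theorem factP_blk24 : allRange factP 6 (24 * 2 ^ 6) = true := by decide +kernel
theorem factP_blk25 : allRange factP 6 (25 * 2 ^ 6) = true := by decide +kernel
theorem factP_blk26 : allRange factP 6 (26 * 2 ^ 6) = true := by decide +kernel
theorem factP_blk27 : allRange factP 6 (27 * 2 ^ 6) = true := by decide +kernel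
theorem factP_blk28 : allRange factP 6 (28 * 2 ^ 6) = true := by decide +kernel
theorem factP_blk29 : allRange factP 6 (29 * 2 ^ 6) = true := by decide +kernel
theorem factP_blk30 : allRange factP 6 (30 * 2 ^ 6) = true := by decide +kernel
theorem factP_blk31 : allRange factP 6 (31 * 2 ^ 6) = true := by decide +kernel
theorem factP_blk32 : allRange factP 6 (32 * 2 ^ 6) = true := by decide +kernel
theorem factP_blk33 : allRange factP 6 (33 * 2 ^ 6) = true := by decide +kernel
theorem factP_blk34 : allRange factP 6 (34 * 2 ^ 6) = true := by decide +kernel
theorem factP_blk35 : allRange factP 6 (35 * 2 ^ 6) = true := by decide +kernel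
theorem factP_blk36 : allRange factP 6 (36 * 2 ^ 6) = true := by decide +kernel
theorem factP_blk37 : allRange factP 6 (37 * 2 ^ 6) = true := by decide +kernel
theorem factP_blk38 : allRange factP 6 (38 * 2 ^ 6) = true := by decide +kernel
theorem factP_blk39 : allRange factP 6 (39 * 2 ^ 6) = true := by decide +kernel
theorem factP_blk40 : allRange factP 6 (40 * 2 ^ 6) = true := by decide +kernel
theorem factP_blk41 : allRange factP 6 (41 * 2 ^ 6) = true := by decide +kernel
theorem factP_blk42 : allRange factP 6 (42 * 2 ^ 6) = true := by decide +kernel
theorem factP_blk43 : allRange factP 6 (43 * 2 ^ 6) = true := by decide +kernel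
theorem factP_blk44 : allRange factP 6 (44 * 2 ^ 6) = true := by decide +kernel
theorem factP_blk45 : allRange factP 6 (45 * 2 ^ 6) = true := by decide +kernel
theorem factP_blk46 : allRange factP 6 (46 * 2 ^ 6) = true := by decide +kernel
theorem factP_blk47 : allRange factP 6 (47 * 2 ^ 6) = true := by decide +kernel
theorem factP_blk48 : allRange factP 6 (48 * 2 ^ 6) = true := by decide +kernel
theorem factP_blk49 : allRange factP 6 (49 * 2 ^ 6) = true := by decide +kernel
theorem factP_blk50 : allRange factP 6 (50 * 2 ^ 6) = true := by decide +kernel
theorem factP_blk51 : allRange factP 6 (51 * 2 ^ 6) = true := by decide +kernel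
theorem factP_blk52 : allRange factP 6 (52 * 2 ^ 6) = true := by decide +kernel
theorem factP_blk53 : allRange factP 6 (53 * 2 ^ 6) = true := by decide +kernel
theorem factP_blk54 : allRange factP 6 (54 * 2 ^ 6) = true := by decide +kernel
theorem factP_blk55 : allRange factP 6 (55 * 2 ^ 6) = true := by decide +kernel
theorem factP_blk56 : allRange factP 6 (56 * 2 ^ 6) = true := by decide +kernel
theorem factP_blk57 : allRange factP 6 (57 * 2 ^ 6) = true := by decide +kernel
theorem factP_blk58 : allRange factP 6 (58 * 2 ^ 6) = true := by decide +kernel
theorem factP_blk59 : allRange factP 6 (59 * 2 ^ 6) = true := by decide +kernel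
theorem factP_blk60 : allRange factP 6 (60 * 2 ^ 6) = true := by decide +kernel
theorem factP_blk61 : allRange factP 6 (61 * 2 ^ 6) = true := by decide +kernel
theorem factP_blk62 : allRange factP 6 (62 * 2 ^ 6) = true := by decide +kernel
theorem factP_blk63 : allRange factP 6 (63 * 2 ^ 6) = true := by decide +kernel
theorem factP_blk64 : allRange factP 6 (64 * 2 ^ 6) = true := by decide +kernel
theorem factP_blk65 : allRange factP 6 (65 * 2 ^ 6) = true := by decide +kernel
theorem factP_blk66 : allRange factP 6 (66 * 2 ^ 6) = true := by decide +kernel
theorem factP_blk67 : allRange factP 6 (67 * 2 ^ 6) = true := by decide +kernel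
theorem factP_blk68 : allRange factP 6 (68 * 2 ^ 6) = true := by decide +kernel
theorem factP_blk69 : allRange factP 6 (69 * 2 ^ 6) = true := by decide +kernel
theorem factP_blk70 : allRange factP 6 (70 * 2 ^ 6) = true := by decide +kernel
theorem factP_blk71 : allRange factP 6 (71 * 2 ^ 6) = true := by decide +kernel
theorem factP_blk72 : allRange factP 6 (72 * 2 ^ 6) = true := by decide +kernel
theorem factP_blk73 : allRange factP 6 (73 * 2 ^ 6) = true := by decide +kernel
theorem factP_blk74 : allRange factP 6 (74 * 2 ^ 6) = true := by decide +kernel
theorem factP_blk75 : allRange factP 6 (75 * 2 ^ 6) = true := by decide +kernel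
theorem factP_blk76 : allRange factP 6 (76 * 2 ^ 6) = true := by decide +kernel
theorem factP_blk77 : allRange factP 6 (77 * 2 ^ 6) = true := by decide +kernel
theorem factP_blk78 : allRange factP 6 (78 * 2 ^ 6) = true := by decide +kernel
theorem factP_blk79 : allRange factP 6 (79 * 2 ^ 6) = true := by decide +kernel
theorem factP_blk80 : allRange factP 6 (80 * 2 ^ 6) = true := by decide +kernel
theorem factP_blk81 : allRange factP 6 (81 * 2 ^ 6) = true := by decide +kernel
theorem factP_blk82 : allRange factP 6 (82 * 2 ^ 6) = true := by decide +kernel
theorem factP_blk83 : allRange factP 6 (83 * 2 ^ 6) = true := by decide +kernel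
theorem factP_blk84 : allRange factP 6 (84 * 2 ^ 6) = true := by decide +kernel
theorem factP_blk85 : allRange factP 6 (85 * 2 ^ 6) = true := by decide +kernel
theorem factP_blk86 : allRange factP 6 (86 * 2 ^ 6) = true := by decide +kernel
theorem factP_blk87 : allRange factP 6 (87 * 2 ^ 6) = true := by decide +kernel
theorem factP_blk88 : allRange factP 6 (88 * 2 ^ 6) = true := by decide +kernel
theorem factP_blk89 : allRange factP 6 (89 * 2 ^ 6) = true := by decide +kernel
theorem factP_blk90 : allRange factP 6 (90 * 2 ^ 6) = true := by decide +kernel
theorem factP_blk91 : allRange factP 6 (91 * 2 ^ 6) = true := by decide +kernel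
theorem factP_blk92 : allRange factP 6 (92 * 2 ^ 6) = true := by decide +kernel
theorem factP_blk93 : allRange factP 6 (93 * 2 ^ 6) = true := by decide +kernel
theorem factP_blk94 : allRange factP 6 (94 * 2 ^ 6) = true := by decide +kernel
theorem factP_blk95 : allRange factP 6 (95 * 2 ^ 6) = true := by decide +kernel
theorem factP_f0 : ∀ k, 0 ≤ k → k < 96 → allRange factP 6 (k * 2 ^ 6) = true := by
  intro k h1 h2
  interval_cases k
  · exact factP_blk0
  · exact factP_blk1
  · exact factP_blk2
  · exact factP_blk3
  · exact factP_blk4
  · exact factP_blk5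
  · exact factP_blk6
  · exact factP_blk7
  · exact factP_blk8
  · exact factP_blk9
  · exact factP_blk10
  · exact factP_blk11
  · exact factP_blk12
  · exact factP_blk13
  · exact factP_blk14
  · exact factP_blk15
  · exact factP_blk16
  · exact factP_blk17
  · exact factP_blk18
  · exact factP_blk19
  · exact factP_blk20
  · exact factP_blk21
  · exact factP_blk22
  · exact factP_blk23
  · exact factP_blk24
  · exact factP_blk25
  · exact factP_blk26
  · exact factP_blk27
  · exact factP_blk28
  · exact factP_blk29
  · exact factP_blk30
  · exact factP_blk31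
  · exact factP_blk32
  · exact factP_blk33
  · exact factP_blk34
  · exact factP_blk35
  · exact factP_blk36
  · exact factP_blk37
  · exact factP_blk38
  · exact factP_blk39
  · exact factP_blk40
  · exact factP_blk41
  · exact factP_blk42
  · exact factP_blk43
  · exact factP_blk44
  · exact factP_blk45
  · exact factP_blk46
  · exact factP_blk47
  · exact factP_blk48
  · exact factP_blk49
  · exact factP_blk50
  · exact factP_blk51
  · exact factP_blk52
  · exact factP_blk53
  · exact factP_blk54
  · exact factP_blk55
  · exact factP_blk56
  · exact factP_blk57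
  · exact factP_blk58
  · exact factP_blk59
  · exact factP_blk60
  · exact factP_blk61
  · exact factP_blk62
  · exact factP_blk63
  · exact factP_blk64
  · exact factP_blk65
  · exact factP_blk66
  · exact factP_blk67
  · exact factP_blk68
  · exact factP_blk69
  · exact factP_blk70
  · exact factP_blk71
  · exact factP_blk72
  · exact factP_blk73
  · exact factP_blk74
  · exact factP_blk75
  · exact factP_blk76
  · exact factP_blk77
  · exact factP_blk78
  · exact factP_blk79
  · exact factP_blk80
  · exact factP_blk81
  · exact factP_blk82
  · exact factP_blk83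
  · exact factP_blk84
  · exact factP_blk85
  · exact factP_blk86
  · exact factP_blk87
  · exact factP_blk88
  · exact factP_blk89
  · exact factP_blk90
  · exact factP_blk91
  · exact factP_blk92
  · exact factP_blk93
  · exact factP_blk94
  · exact factP_blk95

end

end Cfsg.Agent.Lib.Helper28.Fi22x14080
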