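import Cfsg.Agent.Lib.Helper28.Fi22x14080.ChkDefs

set_option autoImplicit false
set_option linter.unusedVariables false
set_option Elab.async false

namespace Cfsg.Agent.Lib.Helper28.Fi22x14080

open Cfsg.Spor.Fi22 (Gen)
open Cfsg.Agent.Lib.Helper28.TC

noncomputable section

theorem permP_blk0 : allRange (guard nn permP) 5 (0 * 2 ^ 5) = true := by decide +kernel
theorem permP_blk1 : allRange (guard nn permP) 5 (1 * 2 ^ 5) = true := by decide +kernel
theorem permP_blk2 : allRange (guard nn permP) 5 (2 * 2 ^ 5) = true := by decide +kernel
theorem permP_blk3 : allRange (guard nn permP) 5 (3 * 2 ^ 5) = true := by decide +kernel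
theorem permP_blk4 : allRange (guard nn permP) 5 (4 * 2 ^ 5) = true := by decide +kernel
theorem permP_blk5 : allRange (guard nn permP) 5 (5 * 2 ^ 5) = true := by decide +kernel
theorem permP_blk6 : allRange (guard nn permP) 5 (6 * 2 ^ 5) = true := by decide +kernel
theorem permP_blk7 : allRange (guard nn permP) 5 (7 * 2 ^ 5) = true := by decide +kernel
theorem permP_blk8 : allRange (guard nn permP) 5 (8 * 2 ^ 5) = true := by decide +kernel
theorem permP_blk9 : allRange (guard nn permP) 5 (9 * 2 ^ 5) = true := by decide +kernel
theorem permP_blk10 : allRange (guard nn permP) 5 (10 * 2 ^ 5) = true := by decide +kernel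
theorem permP_blk11 : allRange (guard nn permP) 5 (11 * 2 ^ 5) = true := by decide +kernel
theorem permP_blk12 : allRange (guard nn permP) 5 (12 * 2 ^ 5) = true := by decide +kernel
theorem permP_blk13 : allRange (guard nn permP) 5 (13 * 2 ^ 5) = true := by decide +kernel
theorem permP_blk14 : allRange (guard nn permP) 5 (14 * 2 ^ 5) = true := by decide +kernel
theorem permP_blk15 : allRange (guard nn permP) 5 (15 * 2 ^ 5) = true := by decide +kernel
theorem permP_blk16 : allRange (guard nn permP) 5 (16 * 2 ^ 5) = true := by decide +kernel
theorem permP_blk17 : allRange (guard nn permP) 5 (17 * 2 ^ 5) = true := by decide +kernel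
theorem permP_blk18 : allRange (guard nn permP) 5 (18 * 2 ^ 5) = true := by decide +kernel
theorem permP_blk19 : allRange (guard nn permP) 5 (19 * 2 ^ 5) = true := by decide +kernel
theorem permP_blk20 : allRange (guard nn permP) 5 (20 * 2 ^ 5) = true := by decide +kernel
theorem permP_blk21 : allRange (guard nn permP) 5 (21 * 2 ^ 5) = true := by decide +kernel
theorem permP_blk22 : allRange (guard nn permP) 5 (22 * 2 ^ 5) = true := by decide +kernel
theorem permP_blk23 : allRange (guard nn permP) 5 (23 * 2 ^ 5) = true := by decide +kernel
theorem permP_blk24 : allRange (guard nn permP) 5 (24 * 2 ^ 5) = true := by decide +kernel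
theorem permP_blk25 : allRange (guard nn permP) 5 (25 * 2 ^ 5) = true := by decide +kernel
theorem permP_blk26 : allRange (guard nn permP) 5 (26 * 2 ^ 5) = true := by decide +kernel
theorem permP_blk27 : allRange (guard nn permP) 5 (27 * 2 ^ 5) = true := by decide +kernel
theorem permP_blk28 : allRange (guard nn permP) 5 (28 * 2 ^ 5) = true := by decide +kernel
theorem permP_blk29 : allRange (guard nn permP) 5 (29 * 2 ^ 5) = true := by decide +kernel
theorem permP_blk30 : allRange (guard nn permP) 5 (30 * 2 ^ 5) = true := by decide +kernel
theorem permP_blk31 : allRange (guard nn permP) 5 (31 * 2 ^ 5) = true := by decide +kernel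
theorem permP_blk32 : allRange (guard nn permP) 5 (32 * 2 ^ 5) = true := by decide +kernel
theorem permP_blk33 : allRange (guard nn permP) 5 (33 * 2 ^ 5) = true := by decide +kernel
theorem permP_blk34 : allRange (guard nn permP) 5 (34 * 2 ^ 5) = true := by decide +kernel
theorem permP_blk35 : allRange (guard nn permP) 5 (35 * 2 ^ 5) = true := by decide +kernel
theorem permP_blk36 : allRange (guard nn permP) 5 (36 * 2 ^ 5) = true := by decide +kernel
theorem permP_blk37 : allRange (guard nn permP) 5 (37 * 2 ^ 5) = true := by decide +kernel
theorem permP_blk38 : allRange (guard nn permP) 5 (38 * 2 ^ 5) = true := by decide +kernel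
theorem permP_blk39 : allRange (guard nn permP) 5 (39 * 2 ^ 5) = true := by decide +kernel
theorem permP_blk40 : allRange (guard nn permP) 5 (40 * 2 ^ 5) = true := by decide +kernel
theorem permP_blk41 : allRange (guard nn permP) 5 (41 * 2 ^ 5) = true := by decide +kernel
theorem permP_blk42 : allRange (guard nn permP) 5 (42 * 2 ^ 5) = true := by decide +kernel
theorem permP_blk43 : allRange (guard nn permP) 5 (43 * 2 ^ 5) = true := by decide +kernel
theorem permP_blk44 : allRange (guard nn permP) 5 (44 * 2 ^ 5) = true := by decide +kernel
theorem permP_blk45 : allRange (guard nn permP) 5 (45 * 2 ^ 5) = true := by decide +kernel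
theorem permP_blk46 : allRange (guard nn permP) 5 (46 * 2 ^ 5) = true := by decide +kernel
theorem permP_blk47 : allRange (guard nn permP) 5 (47 * 2 ^ 5) = true := by decide +kernel
theorem permP_f0 : ∀ k, 0 ≤ k → k < 48 → allRange (guard nn permP) 5 (k * 2 ^ 5) = true := by
  intro k h1 h2
  interval_cases k
  · exact permP_blk0
  · exact permP_blk1
  · exact permP_blk2
  · exact permP_blk3
  · exact permP_blk4
  · exact permP_blk5
  · exact permP_blk6
  · exact permP_blk7
  · exact permP_blk8
  · exact permP_blk9
  · exact permP_blk10
  · exact permP_blk11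
  · exact permP_blk12
  · exact permP_blk13
  · exact permP_blk14
  · exact permP_blk15
  · exact permP_blk16
  · exact permP_blk17
  · exact permP_blk18
  · exact permP_blk19
  · exact permP_blk20
  · exact permP_blk21
  · exact permP_blk22
  · exact permP_blk23
  · exact permP_blk24
  · exact permP_blk25
  · exact permP_blk26
  · exact permP_blk27
  · exact permP_blk28
  · exact permP_blk29
  · exact permP_blk30
  · exact permP_blk31
  · exact permP_blk32
  · exact permP_blk33
  · exact permP_blk34
  · exact permP_blk35
  · exact permP_blk36
  · exact permP_blk37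
  · exact permP_blk38
  · exact permP_blk39
  · exact permP_blk40
  · exact permP_blk41
  · exact permP_blk42
  · exact permP_blk43
  · exact permP_blk44
  · exact permP_blk45
  · exact permP_blk46
  · exact permP_blk47

end

end Cfsg.Agent.Lib.Helper28.Fi22x14080
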