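import Cfsg.Agent.Lib.Helper28.Fi22x14080.DataE0
import Cfsg.Agent.Lib.Helper28.Fi22x14080.DataE1
import Cfsg.Agent.Lib.Helper28.Fi22x14080.DataE2
import Cfsg.Agent.Lib.Helper28.Fi22x14080.DataE3
import Cfsg.Agent.Lib.Helper28.Fi22x14080.DataE4
import Cfsg.Agent.Lib.Helper28.Fi22x14080.DataE5
import Cfsg.Agent.Lib.Helper28.Fi22x14080.DataE6
import Cfsg.Agent.Lib.Helper28.Fi22x14080.DataE7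
import Cfsg.Agent.Lib.Helper28.Fi22x14080.DataE8
import Cfsg.Agent.Lib.Helper28.Fi22x14080.DataA

set_option autoImplicit false
set_option linter.unusedVariables false

namespace Cfsg.Agent.Lib.Helper28.Fi22x14080

open Cfsg.Spor.Fi22 (Gen)
open Cfsg.Agent.Lib.Helper28.TC

noncomputable section

/-- the generators -/
def gens : List Gen := [Gen.a, Gen.b, Gen.c, Gen.d, Gen.e, Gen.f, Gen.g, Gen.h, Gen.i]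

theorem mem_gens (x : Gen) : x ∈ gens := by cases x <;> decide

/-- decode a generator -/
def genOf (c : ℕ) : Gen := Nat.rec (motive := fun _ => Gen) Gen.a (fun c _ => Nat.rec (motive := fun _ => Gen) Gen.b (fun c _ => Nat.rec (motive := fun _ => Gen) Gen.c (fun c _ => Nat.rec (motive := fun _ => Gen) Gen.d (fun c _ => Nat.rec (motive := fun _ => Gen) Gen.e (fun c _ => Nat.rec (motive := fun _ => Gen) Gen.f (fun c _ => Nat.rec (motive := fun _ => Gen) Gen.g (fun c _ => Nat.rec (motive := fun _ => Gen) Gen.h (fun c _ => Gen.i) c) c) c) c) c) c) c) c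

def hotE (x : Gen) : ℕ := Gen.rec (motive := fun _ => ℕ) hotE0 hotE1 hotE2 hotE3 hotE4 hotE5 hotE6 hotE7 hotE8 x
def coldE (x : Gen) : ℕ := Gen.rec (motive := fun _ => ℕ) coldE0 coldE1 coldE2 coldE3 coldE4 coldE5 coldE6 coldE7 coldE8 x
def tfT (x : Gen) : ℕ := Gen.rec (motive := fun _ => ℕ) tfT0 tfT1 tfT2 tfT3 tfT4 tfT5 tfT6 tfT7 tfT8 x

def entH (x : Gen) (u : ℕ) : ℕ := look (hotE x) 32 4294967295 u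
def jEc (x : Gen) (u : ℕ) : ℕ := look (coldE x) 38 274877906943 u
def alH (k : ℕ) : ℕ := look hotA 32 4294967295 k
def jAc (k : ℕ) : ℕ := look coldA 80 1208925819614629174706175 k
def treeE (k : ℕ) : ℕ := look treeT 32 4294967295 k
/-- the final coset table -/
def tf (x : Gen) (i : ℕ) : ℕ := look (tfT x) 14 16383 i
/-- the final coset number of a row -/
def fin (k : ℕ) : ℕ := Nat.shiftRight (treeE k) 18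
/-- the designated row of a final coset -/
def rowOf (i : ℕ) : ℕ := look rowT 14 16383 i

/-- the cycle words with their reverses and lengths -/
def cycs : List (List Gen × List Gen × ℕ) := [
  ([Gen.a, Gen.a], [Gen.a, Gen.a], 2),
  ([Gen.a, Gen.b, Gen.a, Gen.b, Gen.a, Gen.b], [Gen.b, Gen.a, Gen.b, Gen.a, Gen.b, Gen.a], 6),
  ([Gen.a, Gen.c, Gen.a, Gen.c], [Gen.c, Gen.a, Gen.c, Gen.a], 4),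
  ([Gen.a, Gen.d, Gen.a, Gen.d], [Gen.d, Gen.a, Gen.d, Gen.a], 4),
  ([Gen.a, Gen.e, Gen.a, Gen.e], [Gen.e, Gen.a, Gen.e, Gen.a], 4),
  ([Gen.a, Gen.f, Gen.a, Gen.f], [Gen.f, Gen.a, Gen.f, Gen.a], 4),
  ([Gen.a, Gen.h, Gen.a, Gen.h], [Gen.h, Gen.a, Gen.h, Gen.a], 4),
  ([Gen.a, Gen.g, Gen.a, Gen.g], [Gen.g, Gen.a, Gen.g, Gen.a], 4),
  ([Gen.a, Gen.i, Gen.a, Gen.i], [Gen.i, Gen.a, Gen.i, Gen.a], 4),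
  ([Gen.b, Gen.a, Gen.b, Gen.a, Gen.b, Gen.a], [Gen.a, Gen.b, Gen.a, Gen.b, Gen.a, Gen.b], 6),
  ([Gen.b, Gen.b], [Gen.b, Gen.b], 2),
  ([Gen.b, Gen.c, Gen.b, Gen.c, Gen.b, Gen.c], [Gen.c, Gen.b, Gen.c, Gen.b, Gen.c, Gen.b], 6),
  ([Gen.b, Gen.d, Gen.b, Gen.d], [Gen.d, Gen.b, Gen.d, Gen.b], 4),
  ([Gen.b, Gen.e, Gen.b, Gen.e], [Gen.e, Gen.b, Gen.e, Gen.b], 4),
  ([Gen.b, Gen.f, Gen.b, Gen.f], [Gen.f, Gen.b, Gen.f, Gen.b], 4),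
  ([Gen.b, Gen.h, Gen.b, Gen.h], [Gen.h, Gen.b, Gen.h, Gen.b], 4),
  ([Gen.b, Gen.g, Gen.b, Gen.g], [Gen.g, Gen.b, Gen.g, Gen.b], 4),
  ([Gen.b, Gen.i, Gen.b, Gen.i], [Gen.i, Gen.b, Gen.i, Gen.b], 4),
  ([Gen.c, Gen.a, Gen.c, Gen.a], [Gen.a, Gen.c, Gen.a, Gen.c], 4),
  ([Gen.c, Gen.b, Gen.c, Gen.b, Gen.c, Gen.b], [Gen.b, Gen.c, Gen.b, Gen.c, Gen.b, Gen.c], 6),
  ([Gen.c, Gen.c], [Gen.c, Gen.c], 2),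
  ([Gen.c, Gen.d, Gen.c, Gen.d, Gen.c, Gen.d], [Gen.d, Gen.c, Gen.d, Gen.c, Gen.d, Gen.c], 6),
  ([Gen.c, Gen.e, Gen.c, Gen.e], [Gen.e, Gen.c, Gen.e, Gen.c], 4),
  ([Gen.c, Gen.f, Gen.c, Gen.f], [Gen.f, Gen.c, Gen.f, Gen.c], 4),
  ([Gen.c, Gen.h, Gen.c, Gen.h], [Gen.h, Gen.c, Gen.h, Gen.c], 4),
  ([Gen.c, Gen.g, Gen.c, Gen.g], [Gen.g, Gen.c, Gen.g, Gen.c], 4),
  ([Gen.c, Gen.i, Gen.c, Gen.i], [Gen.i, Gen.c, Gen.i, Gen.c], 4),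
  ([Gen.d, Gen.a, Gen.d, Gen.a], [Gen.a, Gen.d, Gen.a, Gen.d], 4),
  ([Gen.d, Gen.b, Gen.d, Gen.b], [Gen.b, Gen.d, Gen.b, Gen.d], 4),
  ([Gen.d, Gen.c, Gen.d, Gen.c, Gen.d, Gen.c], [Gen.c, Gen.d, Gen.c, Gen.d, Gen.c, Gen.d], 6),
  ([Gen.d, Gen.d], [Gen.d, Gen.d], 2),
  ([Gen.d, Gen.e, Gen.d, Gen.e, Gen.d, Gen.e], [Gen.e, Gen.d, Gen.e, Gen.d, Gen.e, Gen.d], 6),
  ([Gen.d, Gen.f, Gen.d, Gen.f], [Gen.f, Gen.d, Gen.f, Gen.d], 4),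
  ([Gen.d, Gen.h, Gen.d, Gen.h, Gen.d, Gen.h], [Gen.h, Gen.d, Gen.h, Gen.d, Gen.h, Gen.d], 6),
  ([Gen.d, Gen.g, Gen.d, Gen.g], [Gen.g, Gen.d, Gen.g, Gen.d], 4),
  ([Gen.d, Gen.i, Gen.d, Gen.i], [Gen.i, Gen.d, Gen.i, Gen.d], 4),
  ([Gen.e, Gen.a, Gen.e, Gen.a], [Gen.a, Gen.e, Gen.a, Gen.e], 4),
  ([Gen.e, Gen.b, Gen.e, Gen.b], [Gen.b, Gen.e, Gen.b, Gen.e], 4),
  ([Gen.e, Gen.c, Gen.e, Gen.c], [Gen.c, Gen.e, Gen.c, Gen.e], 4),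
  ([Gen.e, Gen.d, Gen.e, Gen.d, Gen.e, Gen.d], [Gen.d, Gen.e, Gen.d, Gen.e, Gen.d, Gen.e], 6),
  ([Gen.e, Gen.e], [Gen.e, Gen.e], 2),
  ([Gen.e, Gen.f, Gen.e, Gen.f, Gen.e, Gen.f], [Gen.f, Gen.e, Gen.f, Gen.e, Gen.f, Gen.e], 6),
  ([Gen.e, Gen.h, Gen.e, Gen.h], [Gen.h, Gen.e, Gen.h, Gen.e], 4),
  ([Gen.e, Gen.g, Gen.e, Gen.g], [Gen.g, Gen.e, Gen.g, Gen.e], 4),
  ([Gen.e, Gen.i, Gen.e, Gen.i], [Gen.i, Gen.e, Gen.i, Gen.e], 4),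
  ([Gen.f, Gen.a, Gen.f, Gen.a], [Gen.a, Gen.f, Gen.a, Gen.f], 4),
  ([Gen.f, Gen.b, Gen.f, Gen.b], [Gen.b, Gen.f, Gen.b, Gen.f], 4),
  ([Gen.f, Gen.c, Gen.f, Gen.c], [Gen.c, Gen.f, Gen.c, Gen.f], 4),
  ([Gen.f, Gen.d, Gen.f, Gen.d], [Gen.d, Gen.f, Gen.d, Gen.f], 4),
  ([Gen.f, Gen.e, Gen.f, Gen.e, Gen.f, Gen.e], [Gen.e, Gen.f, Gen.e, Gen.f, Gen.e, Gen.f], 6),
  ([Gen.f, Gen.f], [Gen.f, Gen.f], 2),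
  ([Gen.f, Gen.h, Gen.f, Gen.h], [Gen.h, Gen.f, Gen.h, Gen.f], 4),
  ([Gen.f, Gen.g, Gen.f, Gen.g, Gen.f, Gen.g], [Gen.g, Gen.f, Gen.g, Gen.f, Gen.g, Gen.f], 6),
  ([Gen.f, Gen.i, Gen.f, Gen.i], [Gen.i, Gen.f, Gen.i, Gen.f], 4),
  ([Gen.h, Gen.a, Gen.h, Gen.a], [Gen.a, Gen.h, Gen.a, Gen.h], 4),
  ([Gen.h, Gen.b, Gen.h, Gen.b], [Gen.b, Gen.h, Gen.b, Gen.h], 4),
  ([Gen.h, Gen.c, Gen.h, Gen.c], [Gen.c, Gen.h, Gen.c, Gen.h], 4),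
  ([Gen.h, Gen.d, Gen.h, Gen.d, Gen.h, Gen.d], [Gen.d, Gen.h, Gen.d, Gen.h, Gen.d, Gen.h], 6),
  ([Gen.h, Gen.e, Gen.h, Gen.e], [Gen.e, Gen.h, Gen.e, Gen.h], 4),
  ([Gen.h, Gen.f, Gen.h, Gen.f], [Gen.f, Gen.h, Gen.f, Gen.h], 4),
  ([Gen.h, Gen.h], [Gen.h, Gen.h], 2),
  ([Gen.h, Gen.g, Gen.h, Gen.g], [Gen.g, Gen.h, Gen.g, Gen.h], 4),
  ([Gen.h, Gen.i, Gen.h, Gen.i, Gen.h, Gen.i], [Gen.i, Gen.h, Gen.i, Gen.h, Gen.i, Gen.h], 6),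
  ([Gen.g, Gen.a, Gen.g, Gen.a], [Gen.a, Gen.g, Gen.a, Gen.g], 4),
  ([Gen.g, Gen.b, Gen.g, Gen.b], [Gen.b, Gen.g, Gen.b, Gen.g], 4),
  ([Gen.g, Gen.c, Gen.g, Gen.c], [Gen.c, Gen.g, Gen.c, Gen.g], 4),
  ([Gen.g, Gen.d, Gen.g, Gen.d], [Gen.d, Gen.g, Gen.d, Gen.g], 4),
  ([Gen.g, Gen.e, Gen.g, Gen.e], [Gen.e, Gen.g, Gen.e, Gen.g], 4),
  ([Gen.g, Gen.f, Gen.g, Gen.f, Gen.g, Gen.f], [Gen.f, Gen.g, Gen.f, Gen.g, Gen.f, Gen.g], 6),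
  ([Gen.g, Gen.h, Gen.g, Gen.h], [Gen.h, Gen.g, Gen.h, Gen.g], 4),
  ([Gen.g, Gen.g], [Gen.g, Gen.g], 2),
  ([Gen.g, Gen.i, Gen.g, Gen.i], [Gen.i, Gen.g, Gen.i, Gen.g], 4),
  ([Gen.i, Gen.a, Gen.i, Gen.a], [Gen.a, Gen.i, Gen.a, Gen.i], 4),
  ([Gen.i, Gen.b, Gen.i, Gen.b], [Gen.b, Gen.i, Gen.b, Gen.i], 4),
  ([Gen.i, Gen.c, Gen.i, Gen.c], [Gen.c, Gen.i, Gen.c, Gen.i], 4),
  ([Gen.i, Gen.d, Gen.i, Gen.d], [Gen.d, Gen.i, Gen.d, Gen.i], 4),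
  ([Gen.i, Gen.e, Gen.i, Gen.e], [Gen.e, Gen.i, Gen.e, Gen.i], 4),
  ([Gen.i, Gen.f, Gen.i, Gen.f], [Gen.f, Gen.i, Gen.f, Gen.i], 4),
  ([Gen.i, Gen.h, Gen.i, Gen.h, Gen.i, Gen.h], [Gen.h, Gen.i, Gen.h, Gen.i, Gen.h, Gen.i], 6),
  ([Gen.i, Gen.g, Gen.i, Gen.g], [Gen.g, Gen.i, Gen.g, Gen.i], 4),
  ([Gen.i, Gen.i], [Gen.i, Gen.i], 2),
  ([Gen.d, Gen.c, Gen.b, Gen.d, Gen.e, Gen.f, Gen.d, Gen.h, Gen.i, Gen.d, Gen.c, Gen.b, Gen.d, Gen.e, Gen.f, Gen.d, Gen.h, Gen.i, Gen.d, Gen.c, Gen.b, Gen.d, Gen.e, Gen.f, Gen.d, Gen.h, Gen.i, Gen.d, Gen.c, Gen.b, Gen.d, Gen.e, Gen.f, Gen.d, Gen.h, Gen.i, Gen.d, Gen.c, Gen.b, Gen.d, Gen.e, Gen.f, Gen.d, Gen.h, Gen.i, Gen.d, Gen.c, Gen.b, Gen.d, Gen.e, Gen.f, Gen.d, Gen.h, Gen.i, Gen.d, Gen.c, Gen.b, Gen.d, Gen.e, Gen.f, Gen.d,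 Gen.h, Gen.i, Gen.d, Gen.c, Gen.b, Gen.d, Gen.e, Gen.f, Gen.d, Gen.h, Gen.i, Gen.d, Gen.c, Gen.b, Gen.d, Gen.e, Gen.f, Gen.d, Gen.h, Gen.i, Gen.d, Gen.c, Gen.b, Gen.d, Gen.e, Gen.f, Gen.d, Gen.h, Gen.i], [Gen.i, Gen.h, Gen.d, Gen.f, Gen.e, Gen.d, Gen.b, Gen.c, Gen.d, Gen.i, Gen.h, Gen.d, Gen.f, Gen.e, Gen.d, Gen.b, Gen.c, Gen.d, Gen.i, Gen.h, Gen.d, Gen.f, Gen.e, Gen.d, Gen.b, Gen.c, Gen.d, Gen.i, Gen.h, Gen.d, Gen.f, Gen.e, Gen.d, Gen.b, Gen.c, Gen.d, Gen.i, Gen.h, Gen.d, Gen.f, Gen.e, Gen.d, Gen.b, Gen.c, Gen.d, Gen.i, Gen.h, Gen.d, Gen.f, Gen.e, Gen.d, Gen.b, Gen.c, Gen.d, Gen.i, Gen.h, Gen.d, Gen.f, Gen.e, Gen.d, Gen.b, Gen.c, Gen.d, Gen.i, Gen.h, Gen.d, Gen.f, Gen.e, Gen.d, Gen.b, Gen.c, Gen.d, Gen.i, Gen.h, Gen.d, Gen.f, Gen.e, Gen.d, Gen.b, Gen.c,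 Gen.d, Gen.i, Gen.h, Gen.d, Gen.f, Gen.e, Gen.d, Gen.b, Gen.c, Gen.d], 90),
  ([Gen.a, Gen.b, Gen.c, Gen.d, Gen.e, Gen.f, Gen.h, Gen.a, Gen.b, Gen.c, Gen.d, Gen.e, Gen.f, Gen.h, Gen.a, Gen.b, Gen.c, Gen.d, Gen.e, Gen.f, Gen.h, Gen.a, Gen.b, Gen.c, Gen.d, Gen.e, Gen.f, Gen.h, Gen.a, Gen.b, Gen.c, Gen.d, Gen.e, Gen.f, Gen.h, Gen.a, Gen.b, Gen.c, Gen.d, Gen.e, Gen.f, Gen.h, Gen.a, Gen.b, Gen.c, Gen.d, Gen.e, Gen.f, Gen.h, Gen.a, Gen.b, Gen.c, Gen.d, Gen.e, Gen.f, Gen.h, Gen.a, Gen.b, Gen.c, Gen.d, Gen.e, Gen.f, Gen.h], [Gen.h, Gen.f, Gen.e, Gen.d, Gen.c, Gen.b, Gen.a, Gen.h, Gen.f, Gen.e, Gen.d, Gen.c, Gen.b, Gen.a, Gen.h, Gen.f, Gen.e, Gen.d, Gen.c, Gen.b, Gen.a, Gen.h, Gen.f, Gen.e, Gen.d, Gen.c, Gen.b, Gen.a, Gen.h, Gen.f, Gen.e, Gen.d, Gen.c, Gen.b, Gen.a,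 Gen.h, Gen.f, Gen.e, Gen.d, Gen.c, Gen.b, Gen.a, Gen.h, Gen.f, Gen.e, Gen.d, Gen.c, Gen.b, Gen.a, Gen.h, Gen.f, Gen.e, Gen.d, Gen.c, Gen.b, Gen.a, Gen.h, Gen.f, Gen.e, Gen.d, Gen.c, Gen.b, Gen.a], 63),
  ([Gen.b, Gen.c, Gen.d, Gen.e, Gen.f, Gen.g, Gen.h, Gen.b, Gen.c, Gen.d, Gen.e, Gen.f, Gen.g, Gen.h, Gen.b, Gen.c, Gen.d, Gen.e, Gen.f, Gen.g, Gen.h, Gen.b, Gen.c, Gen.d, Gen.e, Gen.f, Gen.g, Gen.h, Gen.b, Gen.c, Gen.d, Gen.e, Gen.f, Gen.g, Gen.h, Gen.b, Gen.c, Gen.d, Gen.e, Gen.f, Gen.g, Gen.h, Gen.b, Gen.c, Gen.d, Gen.e, Gen.f, Gen.g, Gen.h, Gen.b, Gen.c, Gen.d, Gen.e, Gen.f, Gen.g, Gen.h, Gen.b, Gen.c, Gen.d, Gen.e, Gen.f, Gen.g, Gen.h], [Gen.h, Gen.g, Gen.f, Gen.e, Gen.d, Gen.c, Gen.b, Gen.h, Gen.g, Gen.f, Gen.e, Gen.d, Gen.c, Gen.b, Gen.h, Gen.g, Gen.f,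 Gen.e, Gen.d, Gen.c, Gen.b, Gen.h, Gen.g, Gen.f, Gen.e, Gen.d, Gen.c, Gen.b, Gen.h, Gen.g, Gen.f, Gen.e, Gen.d, Gen.c, Gen.b, Gen.h, Gen.g, Gen.f, Gen.e, Gen.d, Gen.c, Gen.b, Gen.h, Gen.g, Gen.f, Gen.e, Gen.d, Gen.c, Gen.b, Gen.h, Gen.g, Gen.f, Gen.e, Gen.d, Gen.c, Gen.b, Gen.h, Gen.g, Gen.f, Gen.e, Gen.d, Gen.c, Gen.b], 63),
  ([Gen.b], [Gen.b], 1),
  ([Gen.c], [Gen.c], 1),
  ([Gen.d], [Gen.d], 1),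
  ([Gen.e], [Gen.e], 1),
  ([Gen.f], [Gen.f], 1),
  ([Gen.g], [Gen.g], 1),
  ([Gen.h], [Gen.h], 1),
  ([Gen.i], [Gen.i], 1)]

/-- the relator words -/
def relWords : List (List Gen) := [
  [Gen.a, Gen.a],
  [Gen.a, Gen.b, Gen.a, Gen.b, Gen.a, Gen.b],
  [Gen.a, Gen.c, Gen.a, Gen.c],
  [Gen.a, Gen.d, Gen.a, Gen.d],
  [Gen.a, Gen.e, Gen.a, Gen.e],
  [Gen.a, Gen.f, Gen.a, Gen.f],
  [Gen.a, Gen.h, Gen.a, Gen.h],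
  [Gen.a, Gen.g, Gen.a, Gen.g],
  [Gen.a, Gen.i, Gen.a, Gen.i],
  [Gen.b, Gen.a, Gen.b, Gen.a, Gen.b, Gen.a],
  [Gen.b, Gen.b],
  [Gen.b, Gen.c, Gen.b, Gen.c, Gen.b, Gen.c],
  [Gen.b, Gen.d, Gen.b, Gen.d],
  [Gen.b, Gen.e, Gen.b, Gen.e],
  [Gen.b, Gen.f, Gen.b, Gen.f],
  [Gen.b, Gen.h, Gen.b, Gen.h],
  [Gen.b, Gen.g, Gen.b, Gen.g],
  [Gen.b, Gen.i, Gen.b, Gen.i],
  [Gen.c, Gen.a, Gen.c, Gen.a],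
  [Gen.c, Gen.b, Gen.c, Gen.b, Gen.c, Gen.b],
  [Gen.c, Gen.c],
  [Gen.c, Gen.d, Gen.c, Gen.d, Gen.c, Gen.d],
  [Gen.c, Gen.e, Gen.c, Gen.e],
  [Gen.c, Gen.f, Gen.c, Gen.f],
  [Gen.c, Gen.h, Gen.c, Gen.h],
  [Gen.c, Gen.g, Gen.c, Gen.g],
  [Gen.c, Gen.i, Gen.c, Gen.i],
  [Gen.d, Gen.a, Gen.d, Gen.a],
  [Gen.d, Gen.b, Gen.d, Gen.b],
  [Gen.d, Gen.c, Gen.d, Gen.c, Gen.d, Gen.c],
  [Gen.d, Gen.d],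
  [Gen.d, Gen.e, Gen.d, Gen.e, Gen.d, Gen.e],
  [Gen.d, Gen.f, Gen.d, Gen.f],
  [Gen.d, Gen.h, Gen.d, Gen.h, Gen.d, Gen.h],
  [Gen.d, Gen.g, Gen.d, Gen.g],
  [Gen.d, Gen.i, Gen.d, Gen.i],
  [Gen.e, Gen.a, Gen.e, Gen.a],
  [Gen.e, Gen.b, Gen.e, Gen.b],
  [Gen.e, Gen.c, Gen.e, Gen.c],
  [Gen.e, Gen.d, Gen.e, Gen.d, Gen.e, Gen.d],
  [Gen.e, Gen.e],
  [Gen.e, Gen.f, Gen.e, Gen.f, Gen.e, Gen.f],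
  [Gen.e, Gen.h, Gen.e, Gen.h],
  [Gen.e, Gen.g, Gen.e, Gen.g],
  [Gen.e, Gen.i, Gen.e, Gen.i],
  [Gen.f, Gen.a, Gen.f, Gen.a],
  [Gen.f, Gen.b, Gen.f, Gen.b],
  [Gen.f, Gen.c, Gen.f, Gen.c],
  [Gen.f, Gen.d, Gen.f, Gen.d],
  [Gen.f, Gen.e, Gen.f, Gen.e, Gen.f, Gen.e],
  [Gen.f, Gen.f],
  [Gen.f, Gen.h, Gen.f, Gen.h],
  [Gen.f, Gen.g, Gen.f, Gen.g, Gen.f, Gen.g],
  [Gen.f, Gen.i, Gen.f, Gen.i],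
  [Gen.h, Gen.a, Gen.h, Gen.a],
  [Gen.h, Gen.b, Gen.h, Gen.b],
  [Gen.h, Gen.c, Gen.h, Gen.c],
  [Gen.h, Gen.d, Gen.h, Gen.d, Gen.h, Gen.d],
  [Gen.h, Gen.e, Gen.h, Gen.e],
  [Gen.h, Gen.f, Gen.h, Gen.f],
  [Gen.h, Gen.h],
  [Gen.h, Gen.g, Gen.h, Gen.g],
  [Gen.h, Gen.i, Gen.h, Gen.i, Gen.h, Gen.i],
  [Gen.g, Gen.a, Gen.g, Gen.a],
  [Gen.g, Gen.b, Gen.g, Gen.b],
  [Gen.g, Gen.c, Gen.g, Gen.c],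
  [Gen.g, Gen.d, Gen.g, Gen.d],
  [Gen.g, Gen.e, Gen.g, Gen.e],
  [Gen.g, Gen.f, Gen.g, Gen.f, Gen.g, Gen.f],
  [Gen.g, Gen.h, Gen.g, Gen.h],
  [Gen.g, Gen.g],
  [Gen.g, Gen.i, Gen.g, Gen.i],
  [Gen.i, Gen.a, Gen.i, Gen.a],
  [Gen.i, Gen.b, Gen.i, Gen.b],
  [Gen.i, Gen.c, Gen.i, Gen.c],
  [Gen.i, Gen.d, Gen.i, Gen.d],
  [Gen.i, Gen.e, Gen.i, Gen.e],
  [Gen.i, Gen.f, Gen.i, Gen.f],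
  [Gen.i, Gen.h, Gen.i, Gen.h, Gen.i, Gen.h],
  [Gen.i, Gen.g, Gen.i, Gen.g],
  [Gen.i, Gen.i],
  [Gen.d, Gen.c, Gen.b, Gen.d, Gen.e, Gen.f, Gen.d, Gen.h, Gen.i, Gen.d, Gen.c, Gen.b, Gen.d, Gen.e, Gen.f, Gen.d, Gen.h, Gen.i, Gen.d, Gen.c, Gen.b, Gen.d, Gen.e, Gen.f, Gen.d, Gen.h, Gen.i, Gen.d, Gen.c, Gen.b, Gen.d, Gen.e, Gen.f, Gen.d, Gen.h, Gen.i, Gen.d, Gen.c, Gen.b, Gen.d, Gen.e, Gen.f, Gen.d, Gen.h, Gen.i, Gen.d, Gen.c, Gen.b, Gen.d, Gen.e, Gen.f, Gen.d, Gen.h, Gen.i, Gen.d, Gen.c, Gen.b, Gen.d, Gen.e, Gen.f, Gen.d, Gen.h, Gen.i, Gen.d, Gen.c, Gen.b, Gen.d, Gen.e, Gen.f, Gen.d, Gen.h, Gen.i, Gen.d, Gen.c, Gen.b, Gen.d, Gen.e, Gen.f, Gen.d, Gen.h, Gen.i, Gen.d, Gen.c, Gen.b, Gen.d, Gen.e, Gen.f, Gen.d, Gen.h, Gen.i],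
  [Gen.a, Gen.b, Gen.c, Gen.d, Gen.e, Gen.f, Gen.h, Gen.a, Gen.b, Gen.c, Gen.d, Gen.e, Gen.f, Gen.h, Gen.a, Gen.b, Gen.c, Gen.d, Gen.e, Gen.f, Gen.h, Gen.a, Gen.b, Gen.c, Gen.d, Gen.e, Gen.f, Gen.h, Gen.a, Gen.b, Gen.c, Gen.d, Gen.e, Gen.f, Gen.h, Gen.a, Gen.b, Gen.c, Gen.d, Gen.e, Gen.f, Gen.h, Gen.a, Gen.b, Gen.c, Gen.d, Gen.e, Gen.f, Gen.h, Gen.a, Gen.b, Gen.c, Gen.d, Gen.e, Gen.f, Gen.h, Gen.a, Gen.b, Gen.c, Gen.d, Gen.e, Gen.f, Gen.h],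
  [Gen.b, Gen.c, Gen.d, Gen.e, Gen.f, Gen.g, Gen.h, Gen.b, Gen.c, Gen.d, Gen.e, Gen.f, Gen.g, Gen.h, Gen.b, Gen.c, Gen.d, Gen.e, Gen.f, Gen.g, Gen.h, Gen.b, Gen.c, Gen.d, Gen.e, Gen.f, Gen.g, Gen.h, Gen.b, Gen.c, Gen.d, Gen.e, Gen.f, Gen.g, Gen.h, Gen.b, Gen.c, Gen.d, Gen.e, Gen.f, Gen.g, Gen.h, Gen.b, Gen.c, Gen.d, Gen.e, Gen.f, Gen.g, Gen.h, Gen.b, Gen.c, Gen.d, Gen.e, Gen.f, Gen.g, Gen.h, Gen.b, Gen.c, Gen.d, Gen.e, Gen.f, Gen.g, Gen.h]]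

/-- the subgroup generator words -/
def subWords : List (List Gen) := [
  [Gen.b],
  [Gen.c],
  [Gen.d],
  [Gen.e],
  [Gen.f],
  [Gen.g],
  [Gen.h],
  [Gen.i]]

/-- expressions of the further relators -/
def extraE : List (WE Gen) := [
  (WE.pow (WE.mul (WE.mul (WE.mul (WE.mul (WE.mul (WE.mul (WE.mul (WE.mul (WE.of Gen.d) (WE.of Gen.c)) (WE.of Gen.b)) (WE.of Gen.d)) (WE.of Gen.e)) (WE.of Gen.f)) (WE.of Gen.d)) (WE.of Gen.h)) (WE.of Gen.i)) 10),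
  (WE.pow (WE.mul (WE.mul (WE.mul (WE.mul (WE.mul (WE.mul (WE.of Gen.a) (WE.of Gen.b)) (WE.of Gen.c)) (WE.of Gen.d)) (WE.of Gen.e)) (WE.of Gen.f)) (WE.of Gen.h)) 9),
  (WE.pow (WE.mul (WE.mul (WE.mul (WE.mul (WE.mul (WE.mul (WE.of Gen.b) (WE.of Gen.c)) (WE.of Gen.d)) (WE.of Gen.e)) (WE.of Gen.f)) (WE.of Gen.g)) (WE.of Gen.h)) 9)]

/-- expressions of the subgroup generators -/
def subE : List (WE Gen) := [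
  (WE.of Gen.b),
  (WE.of Gen.c),
  (WE.of Gen.d),
  (WE.of Gen.e),
  (WE.of Gen.f),
  (WE.of Gen.g),
  (WE.of Gen.h),
  (WE.of Gen.i)]

/-- the certificate -/
def C : Cert Gen where
  par := fun k => Nat.land (treeE k) 16383
  gn := fun k => genOf (Nat.land (Nat.shiftRight (treeE k) 14) 15)
  ent := fun x u => Nat.land (entH x u) 16383
  rkE := fun x u => Nat.shiftRight (entH x u) 14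
  jEk := fun x u => Nat.land (jEc x u) 3
  jEa := fun x u => Nat.land (Nat.shiftRight (jEc x u) 2) 16383
  jEp := fun x u => Nat.land (Nat.shiftRight (jEc x u) 16) 255
  jEz := fun x u => Nat.shiftRight (jEc x u) 24
  al := fun k => Nat.land (alH k) 16383
  rkA := fun k => Nat.shiftRight (alH k) 14
  jAx := fun k => genOf (Nat.land (jAc k) 15)
  jA1k := fun k => Nat.land (Nat.shiftRight (jAc k) 4) 3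
  jA1a := fun k => Nat.land (Nat.shiftRight (jAc k) 6) 16383
  jA1p := fun k => Nat.land (Nat.shiftRight (jAc k) 20) 255
  jA1z := fun k => Nat.land (Nat.shiftRight (jAc k) 28) 16383
  jA2k := fun k => Nat.land (Nat.shiftRight (jAc k) 42) 3
  jA2a := fun k => Nat.land (Nat.shiftRight (jAc k) 44) 16383
  jA2p := fun k => Nat.land (Nat.shiftRight (jAc k) 58) 255
  jA2z := fun k => Nat.land (Nat.shiftRight (jAc k) 66) 16383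
  cycW := fun ci => (nthD cycs ci ([], [], 0)).1
  cycR := fun ci => (nthD cycs ci ([], [], 0)).2.1
  cycL := fun ci => (nthD cycs ci ([], [], 0)).2.2
  cycA := fun ci => Nat.ble 84 ci
  fuel := 5

def NN : ℕ := 15805
def nn : ℕ := 14080
def RR : ℕ := 131964


end

end Cfsg.Agent.Lib.Helper28.Fi22x14080
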